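import Groth.Agent.L05.ConormalRank.Main
import Groth.Agent.L05.OmegaRank.Regular
import Groth.Agent.L19.OmegaSh.ConormalMono
import Groth.Agent.L16.Acc
import Groth.Agent.L25.Cocycle.NilConj

/-! # When a closed subscheme of a smooth scheme is smooth: the conormal sequence -/

set_option autoImplicit false
set_option linter.style.haveILetI false
set_option backward.isDefEq.respectTransparency.types false
set_option backward.isDefEq.respectTransparency false

universe u

open CategoryTheory CategoryTheory.Limits AlgebraicGeometry TopologicalSpace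
open scoped TensorProduct

noncomputable section

namespace Groth.L05.ConormalRank

open Groth.L18.Frame (rs ro rs_rs rs_self)
open OmegaSh (idealSect pullSect conormalSect)
open KaehlerDifferential (kerCotangentToTensor)

variable {Z X Y : Scheme.{u}} {f : X ⟶ Y} {i : Z ⟶ X}

set_option maxHeartbeats 1600000 in
/-- If the first map of the conormal sequence is mono, `I/I² → B ⊗ Ω` is injective on affine charts. -/
theorem injective_kerCotangentToTensor [QuasiCompact i] {Ω : X.Modules} (d : OmegaSh.Der f Ω)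
    {φ : Omega.conormal i ⟶ (Scheme.Modules.pullback i).obj Ω} (hφ : OmegaSh.IsConormalDiff i d φ) [Mono φ]
    {V : Y.Opens} {W : X.Opens} (hW : IsAffineOpen W) (hU : IsAffineOpen (i ⁻¹ᵁ W)) (e : W ≤ f ⁻¹ᵁ V) :
    letI : Algebra Γ(Y, V) Γ(X, W) := (f.appLE V W e).hom.toAlgebra
    letI : Algebra Γ(X, W) Γ(Z, i ⁻¹ᵁ W) := (i.appLE W (i ⁻¹ᵁ W) le_rfl).hom.toAlgebra
    Function.Surjective (algebraMap Γ(X, W) Γ(Z, i ⁻¹ᵁ W)) →
      Function.Injective (kerCotangentToTensor Γ(Y, V) Γ(X, W) Γ(Z, i ⁻¹ᵁ W)) := by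
  classical
  letI algRA : Algebra Γ(Y, V) Γ(X, W) := (f.appLE V W e).hom.toAlgebra
  letI algAB : Algebra Γ(X, W) Γ(Z, i ⁻¹ᵁ W) := (i.appLE W (i ⁻¹ᵁ W) le_rfl).hom.toAlgebra
  intro hs
  let M := ClSub.idealMod i.ker
  let R := Γ(Y, V)
  let A := Γ(X, W)
  let B := Γ(Z, i ⁻¹ᵁ W)
  let I : Ideal A := RingHom.ker (algebraMap A B)
  let P := (Scheme.Modules.pullback i).obj Ω
  have happ : i.appLE W (i ⁻¹ᵁ W) le_rfl = i.app W := (Scheme.Hom.app_eq_appLE i (U := W)).symm
  letI modC : Module A Γ((Scheme.Modules.pullback i).obj M, i ⁻¹ᵁ W) :=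
    Module.compHom _ (i.appLE W (i ⁻¹ᵁ W) le_rfl).hom
  haveI : IsScalarTower A B Γ((Scheme.Modules.pullback i).obj M, i ⁻¹ᵁ W) := IsScalarTower.of_algebraMap_smul fun _ _ => rfl
  letI modP : Module A Γ(P, i ⁻¹ᵁ W) := Module.compHom _ (i.appLE W (i ⁻¹ᵁ W) le_rfl).hom
  haveI : IsScalarTower A B Γ(P, i ⁻¹ᵁ W) := IsScalarTower.of_algebraMap_smul fun _ _ => rfl
  letI : Module R Γ(P, i ⁻¹ᵁ W) := Module.compHom _ (algebraMap R A)
  haveI : IsScalarTower R A Γ(P, i ⁻¹ᵁ W) := IsScalarTower.of_algebraMap_smul fun _ _ => rfl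
  let pS : Γ(Ω, W) →ₗ[A] Γ(P, i ⁻¹ᵁ W) :=
    { toFun := fun m => pullSect i Ω W m
      map_add' := fun a b => map_add _ a b
      map_smul' := fun a m => (OmegaSh.pullSect_smul i Ω W a m).trans
        (congrArg (· • _) (congr($(happ.symm) a))) }
  let D : Derivation R A Γ(P, i ⁻¹ᵁ W) :=
    { toFun := fun a => pS (d.app W a)
      map_add' := fun a b => (congrArg pS (map_add (d.app W) a b)).trans (map_add pS _ _)
      map_smul' := fun c a => by
        show pS (d.app W (c • a)) = algebraMap R A c • pS (d.app W a)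
        rw [Algebra.smul_def, Groth.L19.OmegaSh.der_mul d, map_add, map_smul, map_smul,
          show d.app W (algebraMap R A c) = 0 from Groth.L19.OmegaSh.der_appLE d e c, map_zero, smul_zero, add_zero]
      map_one_eq_zero' := by
        show pS (d.app W 1) = 0
        rw [← map_one (algebraMap R A), show d.app W (algebraMap R A 1) = 0 from
          Groth.L19.OmegaSh.der_appLE d e 1, map_zero]
      leibniz' := fun a b => by
        show pS (d.app W (a * b)) = a • pS (d.app W b) + b • pS (d.app W a)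
        rw [Groth.L19.OmegaSh.der_mul d, map_add, map_smul, map_smul] }
  let Φ : B ⊗[A] Ω[A⁄R] →ₗ[B] Γ(P, i ⁻¹ᵁ W) := D.liftKaehlerDifferential.liftBaseChange B
  have hbc := Groth.L16.AffineBC.isBaseChange_pull i M hW hU le_rfl
  refine (injective_iff_map_eq_zero _).mpr fun c hc => ?_
  obtain ⟨⟨a, ha⟩, rfl⟩ := Ideal.toCotangent_surjective _ c
  obtain ⟨s, hs'⟩ := Groth.L19.OmegaSh.exists_idealSect i W a (congr($(happ.symm) a) ▸ ha)
  have h0 : pullSect i Ω W (d.app W a) = 0 := by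
    have h1 : Φ (1 ⊗ₜ[A] KaehlerDifferential.D R A a) = 0 := by
      rw [KaehlerDifferential.kerCotangentToTensor_toCotangent] at hc
      exact (congrArg Φ hc).trans (map_zero Φ)
    rw [LinearMap.liftBaseChange_tmul, one_smul, Derivation.liftKaehlerDifferential_comp_D] at h1
    exact h1
  have h2 : conormalSect i W s = 0 := Groth.L16.Acc.app_injective φ (i ⁻¹ᵁ W) <| by
    rw [hφ W s, hs', h0, map_zero]
  let ι₀ : Γ(M, W) →ₗ[A] I :=
    { toFun := fun t => ⟨idealSect i.ker W t, by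
        show i.appLE W (i ⁻¹ᵁ W) le_rfl (idealSect i.ker W t) = 0
        rw [happ]
        exact Groth.L19.OmegaSh.app_idealSect i W t⟩
      map_add' := fun a b => Subtype.ext (map_add _ a b)
      map_smul' := fun a t => Subtype.ext (Scheme.Modules.Hom.app_smul (ClSub.idealModι i.ker) a t) }
  have h3 : (hbc.equiv.symm (Groth.L16.AffineBC.pullRes i M (le_rfl : i ⁻¹ᵁ W ≤ i ⁻¹ᵁ W) s)) = 1 ⊗ₜ[A] s :=
    hbc.equiv_symm_apply s
  have h4 : Groth.L16.AffineBC.pullRes i M (le_rfl : i ⁻¹ᵁ W ≤ i ⁻¹ᵁ W) s = 0 :=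
    (rs_self _ _ _).trans h2
  rw [h4, map_zero] at h3
  let q : (A ⧸ I) ≃ₗ[A] B :=
    (Ideal.quotientKerAlgEquivOfSurjective (f := Algebra.ofId A B) hs).toLinearEquiv
  have h5 := congrArg (fun t => TensorProduct.quotTensorEquivQuotSMul I I
    (TensorProduct.map q.symm.toLinearMap ι₀ t)) h3.symm
  simp only [map_zero, TensorProduct.map_tmul, LinearEquiv.coe_coe] at h5
  rw [show q.symm 1 = Ideal.Quotient.mk I 1 by
    rw [LinearEquiv.symm_apply_eq]; exact (map_one (algebraMap A B)).symm] at h5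
  erw [TensorProduct.quotTensorEquivQuotSMul_mk_tmul] at h5
  rw [one_smul] at h5
  refine Eq.trans (congrArg I.toCotangent (?_ : (⟨a, ha⟩ : I) = ι₀ s)) h5
  exact Subtype.ext hs'.symm

/-- A closed subscheme with projective differentials and mono conormal map is formally smooth on affine charts. -/
theorem formallySmooth_of_injective {R A B : Type u} [CommRing R] [CommRing A] [CommRing B] [Algebra R A] [Algebra A B]
    [Algebra R B] [IsScalarTower R A B] [Algebra.FormallySmooth R A] (hs : Function.Surjective (algebraMap A B))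
    (hinj : Function.Injective (kerCotangentToTensor R A B)) [Module.Projective B Ω[B⁄R]] :
    Algebra.FormallySmooth R B :=
  ⟨inferInstance, (Algebra.FormallySmooth.kerCotangentToTensor_injective_iff hs).mp hinj⟩

set_option maxHeartbeats 1600000 in
/-- A closed subscheme of a smooth scheme is smooth when its differentials are locally free and the conormal map
is mono. -/
theorem smooth_of_locFree_of_mono [Smooth f] [IsClosedImmersion i] [LocallyOfFinitePresentation (i ≫ f)]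
    {ΩX : X.Modules} (dX : OmegaSh.Der f ΩX) {ΩZ : Z.Modules} {dZ : OmegaSh.Der (i ≫ f) ΩZ}
    (hZ : OmegaSh.IsUniversal dZ) {φ : Omega.conormal i ⟶ (Scheme.Modules.pullback i).obj ΩX}
    (hφ : OmegaSh.IsConormalDiff i dX φ) [Mono φ] (hfree : FlatMod.IsFinLocFree ΩZ) : Smooth (i ≫ f) := by
  rw [← Scheme.Hom.smoothLocus_eq_top_iff, ← top_le_iff]
  rintro z -
  obtain ⟨O, n, hzO, ⟨iO⟩⟩ := hfree z
  obtain ⟨O', hO'⟩ : ∃ O' : X.Opens, i ⁻¹ᵁ O' = O := by
    obtain ⟨O', hO', he⟩ := i.isClosedEmbedding.isInducing.isOpen_iff.mp O.2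
    exact ⟨⟨O', hO'⟩, Opens.ext he⟩
  obtain ⟨_, ⟨V, hV, rfl⟩, hzV, -⟩ :=
    Y.isBasis_affineOpens.exists_subset_of_mem_open (show f (i z) ∈ (⊤ : Y.Opens) from trivial) isOpen_univ
  subst hO'
  obtain ⟨⟨W, hW⟩, hzW, hWle, hU, hs⟩ :=
    Groth.L19.OmegaSh.exists_affine_surjective (i := i) z (O' ⊓ f ⁻¹ᵁ V) ⟨hzO, hzV⟩
  dsimp only at hzW hWle hU hs
  have e : W ≤ f ⁻¹ᵁ V := hWle.trans inf_le_right
  have e' : i ⁻¹ᵁ W ≤ (i ≫ f) ⁻¹ᵁ V := Scheme.Hom.preimage_mono i e
  let R := Γ(Y, V)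
  let A := Γ(X, W)
  let B := Γ(Z, i ⁻¹ᵁ W)
  letI : Algebra R A := (f.appLE V W e).hom.toAlgebra
  letI : Algebra A B := (i.appLE W (i ⁻¹ᵁ W) le_rfl).hom.toAlgebra
  letI : Algebra R B := ((i ≫ f).appLE V (i ⁻¹ᵁ W) e').hom.toAlgebra
  haveI : IsScalarTower R A B := IsScalarTower.of_algebraMap_eq' <| by
    show ((i ≫ f).appLE V (i ⁻¹ᵁ W) e').hom = (f.appLE V W e ≫ i.appLE W (i ⁻¹ᵁ W) le_rfl).hom
    rw [Scheme.Hom.appLE_comp_appLE]
  have hs' : Function.Surjective (algebraMap A B) := by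
    show Function.Surjective (i.appLE W (i ⁻¹ᵁ W) le_rfl).hom
    rw [← Scheme.Hom.app_eq_appLE]
    exact hs
  haveI : Algebra.Smooth R A := RingHom.smooth_algebraMap.mp
    (HasRingHomProperty.appLE @Smooth f inferInstance ⟨V, hV⟩ ⟨W, hW⟩ e)
  haveI : Algebra.FinitePresentation R B :=
    HasRingHomProperty.appLE @LocallyOfFinitePresentation (i ≫ f) inferInstance ⟨V, hV⟩ ⟨i ⁻¹ᵁ W, hU⟩ e'
  obtain ⟨b⟩ := Groth.L05.OmegaRank.basis_of_free hZ hU.fromSpec hV.fromSpec
    (IsAffineOpen.SpecMap_appLE_fromSpec (i ≫ f) hV hU e')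
    (fun w => Scheme.Hom.preimage_mono i (hWle.trans inf_le_left) (hU.range_fromSpec.le ⟨w, rfl⟩)) iO
  haveI : Module.Projective B Ω[B⁄R] := Module.Projective.of_basis b
  haveI : Algebra.FormallySmooth R B :=
    formallySmooth_of_injective hs' (injective_kerCotangentToTensor dX hφ hW hU e hs')
  haveI : Algebra.Smooth R B := { }
  rw [Scheme.Hom.mem_smoothLocus, formallySmooth_stalkMap_iff (f := i ≫ f) V hV (i ⁻¹ᵁ W) hU e' hzW]
  exact inferInstanceAs (Algebra.IsSmoothAt _ _)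

end Groth.L05.ConormalRank
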