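import Mathlib.RingTheory.Smooth.Basic
import Mathlib.RingTheory.Smooth.Kaehler
import Mathlib.RingTheory.Spectrum.Prime.FreeLocus
import Mathlib.RingTheory.Ideal.Cotangent
import Mathlib.LinearAlgebra.TensorProduct.Quotient

/-! # The rank of the conormal module of a smooth quotient of a smooth algebra -/

set_option autoImplicit false
set_option linter.style.haveILetI false

universe u

open scoped TensorProduct
open KaehlerDifferential

namespace Groth.L05.ConormalRank

variable {R A B : Type u} [CommRing R] [CommRing A] [CommRing B] [Algebra R A] [Algebra A B] [Algebra R B]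
  [IsScalarTower R A B]

/-- The conormal module of a smooth quotient of a smooth algebra is finite projective, and its rank is the difference
of the ranks of the differentials. -/
theorem finite_projective_rank_tensor_ker [Algebra.FormallySmooth R A] [Algebra.FormallySmooth R B]
    [Algebra.EssFiniteType R A] [Algebra.EssFiniteType R B] (hs : Function.Surjective (algebraMap A B)) :
    Module.Finite B (B ⊗[A] RingHom.ker (algebraMap A B)) ∧
    Module.Projective B (B ⊗[A] RingHom.ker (algebraMap A B)) ∧
    ∀ p : PrimeSpectrum B,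
      Module.rankAtStalk (R := A) Ω[A⁄R] (p.comap (algebraMap A B)) =
        Module.rankAtStalk (R := B) (B ⊗[A] RingHom.ker (algebraMap A B)) p +
          Module.rankAtStalk (R := B) Ω[B⁄R] p := by
  let I := RingHom.ker (algebraMap A B)
  let q : (A ⧸ I) ≃ₗ[A] B :=
    (Ideal.quotientKerAlgEquivOfSurjective (f := Algebra.ofId A B) hs).toLinearEquiv
  let e0 : B ⊗[A] I ≃ₗ[A] I.Cotangent :=
    (TensorProduct.congr q.symm (LinearEquiv.refl _ I)).trans (TensorProduct.quotTensorEquivQuotSMul I I)
  let g : I →ₗ[A] B ⊗[A] Ω[A⁄R] := (kerCotangentToTensor R A B) ∘ₗ I.toCotangent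
  let ψ : B ⊗[A] I →ₗ[B] B ⊗[A] Ω[A⁄R] := g.liftBaseChange B
  have hψ : ψ.restrictScalars A = (kerCotangentToTensor R A B) ∘ₗ e0.toLinearMap := by
    refine TensorProduct.ext' fun b x => ?_
    obtain ⟨a, rfl⟩ := hs b
    rw [Algebra.algebraMap_eq_smul_one, ← TensorProduct.smul_tmul', map_smul, map_smul]
    congr 1
    have h1 : e0 (1 ⊗ₜ[A] x) = I.toCotangent x := by
      have : q.symm 1 = Ideal.Quotient.mk I 1 := by
        rw [LinearEquiv.symm_apply_eq]; exact (map_one (algebraMap A B)).symm
      simp only [e0, LinearEquiv.trans_apply, TensorProduct.congr_tmul, LinearEquiv.refl_apply, this]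
      erw [TensorProduct.quotTensorEquivQuotSMul_mk_tmul]
      rw [one_smul]
      rfl
    simp [ψ, g, h1]
  obtain ⟨l, hl⟩ := (Algebra.FormallySmooth.iff_split_injection (R := R) hs).mp inferInstance
  have hinj : Function.Injective ψ := by
    have hk : Function.Injective (kerCotangentToTensor R A B) :=
      Function.LeftInverse.injective (g := l) fun x => LinearMap.congr_fun hl x
    exact show Function.Injective (ψ.restrictScalars A) from hψ ▸ hk.comp e0.injective
  have hexact : Function.Exact ψ (mapBaseChange R A B) := fun y => by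
    refine (exact_kerCotangentToTensor_mapBaseChange R A B hs y).trans ⟨?_, ?_⟩
    · rintro ⟨x, rfl⟩
      exact ⟨e0.symm x, (LinearMap.congr_fun hψ _).trans (by simp)⟩
    · rintro ⟨x, rfl⟩
      exact ⟨e0 x, (LinearMap.congr_fun hψ x).symm⟩
  obtain ⟨s, hs'⟩ := Module.projective_lifting_property (mapBaseChange R A B) LinearMap.id
    (mapBaseChange_surjective R A B hs)
  let e := (hexact.splitSurjectiveEquiv hinj ⟨s, hs'⟩).1
  haveI : Module.Finite B ((B ⊗[A] I) × Ω[B⁄R]) := Module.Finite.equiv e
  haveI : Module.Projective B ((B ⊗[A] I) × Ω[B⁄R]) := Module.Projective.of_equiv e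
  haveI hf : Module.Finite B (B ⊗[A] I) :=
    Module.Finite.of_surjective (LinearMap.fst B (B ⊗[A] I) Ω[B⁄R]) LinearMap.fst_surjective
  haveI hp : Module.Projective B (B ⊗[A] I) :=
    Module.Projective.of_split (LinearMap.inl B (B ⊗[A] I) Ω[B⁄R]) (LinearMap.fst B (B ⊗[A] I) Ω[B⁄R]) rfl
  refine ⟨hf, hp, fun p => ?_⟩
  rw [← Module.rankAtStalk_baseChange (S := B), Module.rankAtStalk_eq_of_equiv e, Module.rankAtStalk_prod]
  rfl

end Groth.L05.ConormalRank
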