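import Groth.Agent.L05.ConormalRank.Algebra
import Groth.Agent.L05.OmegaRank.Free
import Groth.Agent.L19.OmegaSh.Conormal
import Groth.Agent.L19.LocFreeDescent
import Groth.Agent.L16.AffineBC.Pullback
import Groth.Agent.L18.IdealModule
import Groth.Agent.L20.ModStalk
import Groth.Agent.L07.SyntDim
import Groth.Agent.S2768
import Mathlib.RingTheory.Smooth.StandardSmoothOfFree
import Mathlib.RingTheory.Smooth.StandardSmoothCotangent
import Groth.Prelude.Def_Omega4

/-! # The conormal sheaf of an immersion between smooth schemes -/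

set_option autoImplicit false
set_option linter.style.haveILetI false
set_option backward.isDefEq.respectTransparency.types false
set_option backward.isDefEq.respectTransparency false

universe u

open CategoryTheory CategoryTheory.Limits AlgebraicGeometry TopologicalSpace
open scoped TensorProduct

noncomputable section

namespace Groth.L05.ConormalRank

open Groth.L18.Frame (rs ro rs_rs rs_self)

/-- The fibre dimension of a smooth chart is the rank of its differentials. -/
theorem fibreDimAt_eq_rankAtStalk {X Y : Scheme.{u}} (f : X ⟶ Y) {R B : Type u} [CommRing R] [CommRing B]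
    [Algebra R B] [Algebra.Smooth R B] (j : Spec (CommRingCat.of B) ⟶ X) [IsOpenImmersion j]
    (k : Spec (CommRingCat.of R) ⟶ Y) [IsOpenImmersion k]
    (hjk : Spec.map (CommRingCat.ofHom (algebraMap R B)) ≫ k = j ≫ f) (p : PrimeSpectrum B) :
    FlatMor.fibreDimAt f (j p) = (Module.rankAtStalk (R := B) Ω[B⁄R] p : WithBot ℕ∞) := by
  obtain ⟨g, hg, hstd⟩ := Algebra.IsSmoothAt.exists_notMem_isStandardSmooth R (S := B) p.asIdeal
  let L := Localization.Away g
  haveI : Algebra.IsStandardSmooth R L := hstd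
  obtain ⟨q, rfl⟩ : p ∈ Set.range (PrimeSpectrum.comap (algebraMap B L)) := by
    rw [PrimeSpectrum.localization_away_comap_range L g]
    exact hg
  haveI : Nontrivial L := nontrivial_of_ne 0 1 fun h =>
    q.isPrime.ne_top ((Ideal.eq_top_iff_one _).2 (h ▸ zero_mem _))
  haveI : IsOpenImmersion (Spec.map (CommRingCat.ofHom (algebraMap B L))) :=
    IsOpenImmersion.of_isLocalization g
  let j' : Spec (CommRingCat.of L) ⟶ X := Spec.map (CommRingCat.ofHom (algebraMap B L)) ≫ j
  have hjk' : Spec.map (CommRingCat.ofHom (algebraMap R L)) ≫ k = j' ≫ f := by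
    rw [IsScalarTower.algebraMap_eq R B L, CommRingCat.ofHom_comp, Spec.map_comp, Category.assoc, hjk,
      Category.assoc]
  let n := Module.finrank L Ω[L⁄R]
  haveI hn : Algebra.IsStandardSmoothOfRelativeDimension n R L :=
    (Algebra.IsStandardSmoothOfRelativeDimension.iff_of_isStandardSmooth n).mpr (Module.finrank_eq_rank _ _).symm
  haveI : SmoothOfRelativeDimension n (Spec.map (CommRingCat.ofHom (algebraMap R L))) := by
    rw [HasRingHomProperty.Spec_iff (P := @SmoothOfRelativeDimension n)]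
    refine RingHom.locally_of (RingHom.isStandardSmoothOfRelativeDimension_respectsIso) _ ?_
    exact RingHom.isStandardSmoothOfRelativeDimension_algebraMap n |>.mpr hn
  show FlatMor.fibreDimAt f (j' q) = _
  rw [Groth.L07.SyntDim.fibreDimAt_congr f _ j' k hjk'.symm q,
    ← Module.rankAtStalk_isBaseChange (IsLocalizedModule.isBaseChange (Submonoid.powers g) L
      (KaehlerDifferential.map R R B L)),
    Module.rankAtStalk_eq_finrank_of_free]
  exact Groth.L20.SmoothDim.main n _ _

/-- A finite projective module is free of rank `rankAtStalk` near each prime. -/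
theorem exists_basis_away {B : Type u} [CommRing B] (N : ModuleCat.{u} B) [Module.Finite B N] [Module.Projective B N]
    (p : PrimeSpectrum B) :
    ∃ g ∉ p.asIdeal,
      Nonempty (Module.Basis (Fin (Module.rankAtStalk (R := B) N p)) (Localization.Away g)
        (Localization.Away g ⊗[B] N)) := by
  haveI : Module.FinitePresentation B N := Module.finitePresentation_of_projective _ _
  haveI : Module.Free (Localization.AtPrime p.asIdeal) (LocalizedModule p.asIdeal.primeCompl N) :=
    Module.free_of_flat_of_isLocalRing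
  obtain ⟨g, hg, hfree, hgrk⟩ := Module.FinitePresentation.exists_free_localizedModule_powers
    p.asIdeal.primeCompl (LocalizedModule.mkLinearMap p.asIdeal.primeCompl N)
    (Localization.AtPrime p.asIdeal)
  obtain ⟨q, -⟩ : p ∈ Set.range (PrimeSpectrum.comap (algebraMap B (Localization.Away g))) := by
    rw [PrimeSpectrum.localization_away_comap_range (Localization.Away g) g]
    exact hg
  haveI : Nontrivial (Localization.Away g) := nontrivial_of_ne 0 1 fun h =>
    q.isPrime.ne_top ((Ideal.eq_top_iff_one _).2 (h ▸ zero_mem _))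
  haveI : Module.Free (Localization.Away g) (Localization.Away g ⊗[B] N) :=
    Module.Free.of_equiv (LocalizedModule.equivTensorProduct (Submonoid.powers g) N)
  exact ⟨g, hg, ⟨Module.finBasisOfFinrankEq _ _
    (((LocalizedModule.equivTensorProduct (Submonoid.powers g) N).finrank_eq).symm.trans hgrk)⟩⟩

variable {X' X Y : Scheme.{u}}

set_option maxHeartbeats 1600000 in
/-- On an affine chart the conormal sheaf is the module `B ⊗ ker (A → B)`. -/
theorem conormal_chart (j : X' ⟶ X) [QuasiCompact j] {W : X.Opens} (hW : IsAffineOpen W)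
    (hU : IsAffineOpen (j ⁻¹ᵁ W)) :
    letI : Algebra Γ(X, W) Γ(X', j ⁻¹ᵁ W) := (j.appLE W (j ⁻¹ᵁ W) le_rfl).hom.toAlgebra
    Nonempty ((Omega.conormal j).restrict hU.fromSpec ≅
      tilde (R := Γ(X', j ⁻¹ᵁ W)) (ModuleCat.of Γ(X', j ⁻¹ᵁ W)
        (Γ(X', j ⁻¹ᵁ W) ⊗[Γ(X, W)] RingHom.ker (algebraMap Γ(X, W) Γ(X', j ⁻¹ᵁ W))))) := by
  letI algTA : Algebra Γ(X, W) Γ(X', j ⁻¹ᵁ W) := (j.appLE W (j ⁻¹ᵁ W) le_rfl).hom.toAlgebra
  let M := ClSub.idealMod j.ker
  haveI : Coh.IsQCoh (Omega.conormal j) := Groth.L16.AffineBC.isQCoh_pullback j M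
  let T := Γ(X, W)
  let A := Γ(X', j ⁻¹ᵁ W)
  let J : Ideal T := RingHom.ker (algebraMap T A)
  have happ : j.appLE W (j ⁻¹ᵁ W) le_rfl = j.app W := (Scheme.Hom.app_eq_appLE j (U := W)).symm
  letI := Module.compHom Γ((Scheme.Modules.pullback j).obj M, j ⁻¹ᵁ W) (j.appLE W (j ⁻¹ᵁ W) le_rfl).hom
  haveI : IsScalarTower T A Γ((Scheme.Modules.pullback j).obj M, j ⁻¹ᵁ W) :=
    IsScalarTower.of_algebraMap_smul fun _ _ => rfl
  have hbc := Groth.L16.AffineBC.isBaseChange_pull j M hW hU le_rfl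
  have hker : j.ker.ideal ⟨W, hW⟩ = J := by
    rw [Scheme.Hom.ker_apply, ← happ]
    rfl
  let ι₀ : Γ(M, W) →ₗ[T] J :=
    { toFun := fun s => ⟨_root_.OmegaSh.idealSect j.ker W s,
        hker ▸ (Groth.L18.IdealModule.mem_ideal_iff j.ker hW (_root_.OmegaSh.idealSect j.ker W s)).2 ⟨s, rfl⟩⟩
      map_add' := fun a b => Subtype.ext (map_add _ a b)
      map_smul' := fun a s => Subtype.ext (Scheme.Modules.Hom.app_smul (ClSub.idealModι j.ker) a s) }
  have hι : Function.Bijective ι₀ := ⟨fun a b e => _root_.OmegaSh.idealModι_app_injective _ _ (congrArg Subtype.val e),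
    fun b => by
      obtain ⟨s, hs⟩ := (Groth.L18.IdealModule.mem_ideal_iff j.ker hW b.1).1 (hker.ge b.2)
      exact ⟨s, Subtype.ext hs⟩⟩
  let eP : Γ(Omega.conormal j, j ⁻¹ᵁ W) ≃ₗ[A] A ⊗[T] J :=
    hbc.equiv.symm.trans ((LinearEquiv.ofBijective ι₀ hι).baseChange T A _ _)
  haveI : ((Omega.conormal j).restrict hU.fromSpec).IsQuasicoherent :=
    Scheme.Modules.isQuasicoherent_restrictFunctor hU.fromSpec _
  let N' := (moduleSpecΓFunctor (R := A)).obj ((Omega.conormal j).restrict hU.fromSpec)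
  have e2 : hU.fromSpec ''ᵁ ⊤ = j ⁻¹ᵁ W := by
    rw [Scheme.Hom.image_top_eq_opensRange, hU.opensRange_fromSpec]
  let eN : N' ≃+ Γ(Omega.conormal j, j ⁻¹ᵁ W) :=
    { toFun := fun s => rs _ e2.ge (show Γ(Omega.conormal j, hU.fromSpec ''ᵁ ⊤) from s)
      invFun := fun t => (show Γ(Omega.conormal j, hU.fromSpec ''ᵁ ⊤) from rs _ e2.le t)
      left_inv := fun s => by
        show rs _ e2.le (rs _ e2.ge (show Γ(Omega.conormal j, hU.fromSpec ''ᵁ ⊤) from s)) = _
        rw [rs_rs]
        exact rs_self _ _ _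
      right_inv := fun t => by
        show rs _ e2.ge (rs _ e2.le t) = t
        rw [rs_rs]
        exact rs_self _ _ _
      map_add' := fun a b => map_add ((Omega.conormal j).presheaf.map (homOfLE e2.ge).op).hom a b }
  let eL : N' ≃ₗ[A] Γ(Omega.conormal j, j ⁻¹ᵁ W) :=
    { eN with
      map_smul' := fun r s => Groth.L20.ModStalk.finitePresentation_sections_affine.appIso_smul
        (Omega.conormal j) hU r (show Γ(Omega.conormal j, hU.fromSpec ''ᵁ ⊤) from s) }
  exact ⟨(asIso ((Omega.conormal j).restrict hU.fromSpec).fromTildeΓ).symm ≪≫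
    (tilde.functor A).mapIso (eL.trans eP).toModuleIso⟩

set_option maxHeartbeats 1600000 in
/-- The conormal sheaf of a quasi-compact immersion between smooth schemes is locally free, of rank the difference
of the fibre dimensions. -/
theorem exists_free_conormal (f : X ⟶ Y) [Smooth f] (j : X' ⟶ X) [IsImmersion j] [QuasiCompact j]
    [Smooth (j ≫ f)] (x : X') :
    ∃ (U : X'.Opens) (n : ℕ), x ∈ U ∧
      Nonempty ((Omega.conormal j).restrict U.ι ≅ FlatMod.freeMod (U : Scheme.{u}) n) ∧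
      FlatMor.fibreDimAt f (j x) = FlatMor.fibreDimAt (j ≫ f) x + (n : WithBot ℕ∞) := by
  obtain ⟨_, ⟨V, hV, rfl⟩, hxV, -⟩ :=
    Y.isBasis_affineOpens.exists_subset_of_mem_open (show f (j x) ∈ (⊤ : Y.Opens) from trivial) isOpen_univ
  obtain ⟨⟨W, hW⟩, hxW, hWle, hU, hs⟩ :=
    Groth.L19.OmegaSh.exists_affine_surjective (i := j) x (f ⁻¹ᵁ V) hxV
  dsimp only at hxW hWle hU hs
  let R := Γ(Y, V)
  let A := Γ(X, W)
  let B := Γ(X', j ⁻¹ᵁ W)
  have e' : j ⁻¹ᵁ W ≤ (j ≫ f) ⁻¹ᵁ V := Scheme.Hom.preimage_mono j hWle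
  letI : Algebra R A := (f.appLE V W hWle).hom.toAlgebra
  letI algAB : Algebra A B := (j.appLE W (j ⁻¹ᵁ W) le_rfl).hom.toAlgebra
  have happ : j.appLE W (j ⁻¹ᵁ W) le_rfl = j.app W := (Scheme.Hom.app_eq_appLE j (U := W)).symm
  letI : Algebra R B := ((j ≫ f).appLE V (j ⁻¹ᵁ W) e').hom.toAlgebra
  haveI : IsScalarTower R A B := IsScalarTower.of_algebraMap_eq' <| by
    show ((j ≫ f).appLE V (j ⁻¹ᵁ W) e').hom = (f.appLE V W hWle ≫ j.appLE W (j ⁻¹ᵁ W) le_rfl).hom
    rw [Scheme.Hom.appLE_comp_appLE]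
  haveI : Algebra.Smooth R A := RingHom.smooth_algebraMap.mp
    (HasRingHomProperty.appLE @Smooth f inferInstance ⟨V, hV⟩ ⟨W, hW⟩ hWle)
  haveI : Algebra.Smooth R B := RingHom.smooth_algebraMap.mp
    (HasRingHomProperty.appLE @Smooth (j ≫ f) inferInstance ⟨V, hV⟩ ⟨j ⁻¹ᵁ W, hU⟩ e')
  obtain ⟨hfin, hproj, hrank⟩ := finite_projective_rank_tensor_ker (R := R) (A := A) (B := B) (by
    show Function.Surjective (j.appLE W (j ⁻¹ᵁ W) le_rfl).hom
    rw [happ]
    exact hs)
  let p : PrimeSpectrum B := hU.primeIdealOf ⟨x, hxW⟩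
  have hpx : hU.fromSpec p = x := hU.fromSpec_primeIdealOf _
  have hjx : hW.fromSpec (p.comap (algebraMap A B)) = j x := by
    refine Eq.trans ?_ (congrArg j hpx)
    show (Spec.map (j.appLE W (j ⁻¹ᵁ W) le_rfl) ≫ hW.fromSpec) p = (hU.fromSpec ≫ j) p
    rw [IsAffineOpen.SpecMap_appLE_fromSpec]
  let N : ModuleCat.{u} B := ModuleCat.of B (B ⊗[A] RingHom.ker (algebraMap A B))
  haveI : Module.Finite B N := hfin
  haveI : Module.Projective B N := hproj
  obtain ⟨g, hg, ⟨b⟩⟩ := exists_basis_away N p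
  let n := Module.rankAtStalk (R := B) N p
  let L := Localization.Away g
  obtain ⟨q, hq⟩ : p ∈ Set.range (PrimeSpectrum.comap (algebraMap B L)) := by
    rw [PrimeSpectrum.localization_away_comap_range L g]
    exact hg
  let φ : CommRingCat.of B ⟶ CommRingCat.of L := CommRingCat.ofHom (algebraMap B L)
  haveI : IsOpenImmersion (Spec.map φ) := IsOpenImmersion.of_isLocalization g
  let k : Spec (CommRingCat.of L) ⟶ X' := Spec.map φ ≫ hU.fromSpec
  obtain ⟨e⟩ := conormal_chart j hW hU
  obtain ⟨e₁⟩ := Groth.L19.PullChart.nonempty_chart_pullback (𝟙 X') (Omega.conormal j) φ hU.fromSpec k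
    (Category.comp_id _) N e
  obtain ⟨e₂⟩ := Groth.L18.TildeF.extendScalars_equiv (S := L) N
  obtain ⟨i₀⟩ := (Groth.L05.OmegaRank.tilde_free_iff (R := CommRingCat.of L) (ModuleCat.of L (L ⊗[B] N)) n).mpr ⟨b⟩
  obtain ⟨i⟩ := Groth.L05.OmegaRank.free_opensRange (Omega.conormal j) k
    (((Scheme.Modules.restrictFunctor k).mapIso ((Scheme.Modules.pullbackId X').app (Omega.conormal j))).symm ≪≫
      e₁ ≪≫ (tilde.functor (CommRingCat.of L)).mapIso e₂.toModuleIso ≪≫ i₀)
  refine ⟨k.opensRange, n, ⟨q, ?_⟩, ⟨i⟩, ?_⟩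
  · exact (congrArg hU.fromSpec hq).trans hpx
  · have hA := fibreDimAt_eq_rankAtStalk f (R := R) (B := A) hW.fromSpec hV.fromSpec
      (IsAffineOpen.SpecMap_appLE_fromSpec f hV hW hWle) (p.comap (algebraMap A B))
    have hB := fibreDimAt_eq_rankAtStalk (j ≫ f) (R := R) (B := B) hU.fromSpec hV.fromSpec
      (IsAffineOpen.SpecMap_appLE_fromSpec (j ≫ f) hV hU e') p
    rw [hjx] at hA
    rw [hpx] at hB
    rw [hA, hB, hrank p, Nat.cast_add, add_comm]

end Groth.L05.ConormalRank
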