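import Groth.Agent.L05.OmegaRank.Regular
import Mathlib.RingTheory.Kaehler.JacobiZariski
import Mathlib.RingTheory.Smooth.StandardSmoothOfFree

/-! # A morphism of smooth schemes is smooth when its differentials have the expected rank -/

set_option autoImplicit false
set_option linter.style.haveILetI false
set_option backward.isDefEq.respectTransparency.types false
set_option backward.isDefEq.respectTransparency false

universe u

open CategoryTheory CategoryTheory.Limits AlgebraicGeometry TopologicalSpace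
open scoped TensorProduct

noncomputable section

namespace Groth.L05.ConormalRank

open KaehlerDifferential

/-- Two smooth algebras with free differentials: the map is formally smooth if the relative differentials are free of
rank the difference. -/
theorem formallySmooth_of_rank {R B C : Type u} [CommRing R] [CommRing B] [CommRing C] [Algebra R B] [Algebra B C]
    [Algebra R C] [IsScalarTower R B C] [Algebra.FormallySmooth R C] {a n : ℕ}
    (bB : Module.Basis (Fin a) B Ω[B⁄R]) (bC : Module.Basis (Fin (a + n)) C Ω[C⁄R])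
    (bCB : Module.Basis (Fin n) C Ω[C⁄B]) : Algebra.FormallySmooth B C := by
  haveI : Module.Projective C Ω[C⁄B] := Module.Projective.of_basis bCB
  obtain ⟨s, hs⟩ := Module.projective_lifting_property (map R B C C) LinearMap.id (map_surjective R B C)
  let h : (C ⊗[B] Ω[B⁄R]) × Ω[C⁄B] →ₗ[C] Ω[C⁄R] := (mapBaseChange R B C).coprod s
  have hsurj : Function.Surjective h := fun y => by
    obtain ⟨z, hz⟩ := (exact_mapBaseChange_map R B C (y - s (map R B C C y))).mp (by
      rw [map_sub, show map R B C C (s (map R B C C y)) = map R B C C y from LinearMap.congr_fun hs _, sub_self])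
    exact ⟨(z, map R B C C y), by simp [h, hz]⟩
  let e : Ω[C⁄R] ≃ₗ[C] (C ⊗[B] Ω[B⁄R]) × Ω[C⁄B] :=
    bC.equiv ((bB.baseChange C).prod bCB) finSumFinEquiv.symm
  haveI : Module.Finite C Ω[C⁄R] := Module.Finite.of_basis bC
  have hinj : Function.Injective (h ∘ₗ e.toLinearMap) :=
    OrzechProperty.injective_of_surjective_endomorphism _ (hsurj.comp e.surjective)
  have hinj' : Function.Injective (mapBaseChange R B C) := fun x y hxy => by
    have : e.symm (x, 0) = e.symm (y, 0) := hinj (by simp [h, hxy])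
    exact congrArg Prod.fst (e.symm.injective this)
  refine ⟨inferInstance, ⟨fun x y => ?_⟩⟩
  have hz : ∀ z : Algebra.H1Cotangent B C, z = 0 := fun z => by
    have h0 : Algebra.H1Cotangent.δ R B C z = 0 :=
      hinj' (((Algebra.H1Cotangent.exact_δ_mapBaseChange R B C).apply_apply_eq_zero z).trans (map_zero _).symm)
    obtain ⟨w, rfl⟩ := ((Algebra.H1Cotangent.exact_map_δ R B C) z).mp h0
    rw [Subsingleton.elim w 0, map_zero]
  rw [hz x, hz y]

/-- A smooth algebra with free differentials of rank `n` is locally standard smooth of relative dimension `n`. -/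
theorem exists_isStandardSmoothOfRelativeDimension {R B : Type u} [CommRing R] [CommRing B] [Algebra R B]
    [Algebra.Smooth R B] {n : ℕ} (b : Module.Basis (Fin n) B Ω[B⁄R]) (p : PrimeSpectrum B) :
    ∃ g ∉ p.asIdeal, Algebra.IsStandardSmoothOfRelativeDimension n R (Localization.Away g) := by
  obtain ⟨g, hg, hstd⟩ := Algebra.IsSmoothAt.exists_notMem_isStandardSmooth R (S := B) p.asIdeal
  obtain ⟨q, -⟩ : p ∈ Set.range (PrimeSpectrum.comap (algebraMap B (Localization.Away g))) := by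
    rw [PrimeSpectrum.localization_away_comap_range (Localization.Away g) g]
    exact hg
  haveI : Nontrivial (Localization.Away g) := nontrivial_of_ne 0 1 fun h =>
    q.isPrime.ne_top ((Ideal.eq_top_iff_one _).2 (h ▸ zero_mem _))
  haveI : Algebra.IsStandardSmooth R (Localization.Away g) := hstd
  let b' := b.ofIsLocalizedModule (Localization.Away g) (Submonoid.powers g)
    (KaehlerDifferential.map R R B (Localization.Away g))
  refine ⟨g, hg, (Algebra.IsStandardSmoothOfRelativeDimension.iff_of_isStandardSmooth n).mpr ?_⟩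
  rw [rank_eq_card_basis b', Fintype.card_fin]

variable {X Y S : Scheme.{u}}

/-- A morphism between smooth schemes with differentials free of the expected rank is smooth of that relative
dimension. -/
theorem smoothOfRelativeDimension_of_rank (f : X ⟶ Y) (h : Y ⟶ S) [LocallyOfFinitePresentation f]
    (qX : X ⟶ S) (hq : f ≫ h = qX) [Smooth qX] {a n : ℕ}
    {ΩY : Y.Modules} {dY : OmegaSh.Der h ΩY} (hY : OmegaSh.IsUniversal dY) (hYr : FlatMod.IsFinLocFreeOfRank a ΩY)
    {ΩX : X.Modules} {dX : OmegaSh.Der qX ΩX} (hX : OmegaSh.IsUniversal dX)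
    (hXr : FlatMod.IsFinLocFreeOfRank (a + n) ΩX)
    {Ω : X.Modules} {d : OmegaSh.Der f Ω} (hd : OmegaSh.IsUniversal d) (hr : FlatMod.IsFinLocFreeOfRank n Ω) :
    SmoothOfRelativeDimension n f := by
  subst hq
  refine ⟨fun x => ?_⟩
  obtain ⟨O₁, hxO₁, ⟨i₁⟩⟩ := hYr (f x)
  obtain ⟨O₂, hxO₂, ⟨i₂⟩⟩ := hXr x
  obtain ⟨O₃, hxO₃, ⟨i₃⟩⟩ := hr x
  obtain ⟨_, ⟨T, hT, rfl⟩, hxT, -⟩ :=
    S.isBasis_affineOpens.exists_subset_of_mem_open (Set.mem_univ (h (f x))) isOpen_univ
  obtain ⟨_, ⟨V, hV, rfl⟩, hxV, hVle⟩ :=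
    Y.isBasis_affineOpens.exists_subset_of_mem_open (show f x ∈ O₁ ⊓ h ⁻¹ᵁ T from ⟨hxO₁, hxT⟩) (O₁ ⊓ h ⁻¹ᵁ T).2
  obtain ⟨_, ⟨U, hU, rfl⟩, hxU, hUle⟩ :=
    X.isBasis_affineOpens.exists_subset_of_mem_open
      (show x ∈ O₂ ⊓ O₃ ⊓ f ⁻¹ᵁ V from ⟨⟨hxO₂, hxO₃⟩, hxV⟩) (O₂ ⊓ O₃ ⊓ f ⁻¹ᵁ V).2
  have hV' : V ≤ h ⁻¹ᵁ T := fun y hy => (hVle hy).2
  have hU' : U ≤ f ⁻¹ᵁ V := fun y hy => (hUle hy).2
  have hU'' : U ≤ (f ≫ h) ⁻¹ᵁ T := hU'.trans (Scheme.Hom.preimage_mono f hV')
  let R := Γ(S, T)
  let B := Γ(Y, V)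
  let C := Γ(X, U)
  letI : Algebra R B := (h.appLE T V hV').hom.toAlgebra
  letI : Algebra B C := (f.appLE V U hU').hom.toAlgebra
  letI : Algebra R C := ((f ≫ h).appLE T U hU'').hom.toAlgebra
  haveI : IsScalarTower R B C := IsScalarTower.of_algebraMap_eq' <| by
    show ((f ≫ h).appLE T U hU'').hom = (h.appLE T V hV' ≫ f.appLE V U hU').hom
    rw [Scheme.Hom.appLE_comp_appLE]
  haveI : Algebra.Smooth R C := RingHom.smooth_algebraMap.mp
    (HasRingHomProperty.appLE @Smooth (f ≫ h) inferInstance ⟨T, hT⟩ ⟨U, hU⟩ hU'')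
  haveI : Algebra.FinitePresentation B C :=
    HasRingHomProperty.appLE @LocallyOfFinitePresentation f inferInstance ⟨V, hV⟩ ⟨U, hU⟩ hU'
  obtain ⟨bB⟩ := Groth.L05.OmegaRank.basis_of_free hY hV.fromSpec hT.fromSpec
    (IsAffineOpen.SpecMap_appLE_fromSpec h hT hV hV') (fun w => (hVle (hV.range_fromSpec.le ⟨w, rfl⟩)).1) i₁
  obtain ⟨bC⟩ := Groth.L05.OmegaRank.basis_of_free hX hU.fromSpec hT.fromSpec
    (IsAffineOpen.SpecMap_appLE_fromSpec (f ≫ h) hT hU hU'')
    (fun w => (hUle (hU.range_fromSpec.le ⟨w, rfl⟩)).1.1) i₂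
  obtain ⟨bCB⟩ := Groth.L05.OmegaRank.basis_of_free hd hU.fromSpec hV.fromSpec
    (IsAffineOpen.SpecMap_appLE_fromSpec f hV hU hU') (fun w => (hUle (hU.range_fromSpec.le ⟨w, rfl⟩)).1.2) i₃
  haveI : Algebra.FormallySmooth B C := formallySmooth_of_rank bB bC bCB
  haveI : Algebra.Smooth B C := { }
  obtain ⟨g, hg, hstd⟩ := exists_isStandardSmoothOfRelativeDimension bCB (hU.primeIdealOf ⟨x, hxU⟩)
  refine ⟨V, hV, X.basicOpen g, hU.basicOpen g, ?_, (X.basicOpen_le g).trans hU', ?_⟩
  · refine (congrArg (· ∈ X.basicOpen g) (hU.fromSpec_primeIdealOf ⟨x, hxU⟩)).mp ?_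
    show hU.primeIdealOf ⟨x, hxU⟩ ∈ hU.fromSpec ⁻¹ᵁ X.basicOpen g
    rw [hU.fromSpec_preimage_basicOpen]
    exact hg
  · haveI := hU.isLocalization_basicOpen g
    letI : Algebra B Γ(X, X.basicOpen g) := (f.appLE V (X.basicOpen g) ((X.basicOpen_le g).trans hU')).hom.toAlgebra
    haveI : IsScalarTower B C Γ(X, X.basicOpen g) := IsScalarTower.of_algebraMap_eq' <| by
      show (f.appLE V (X.basicOpen g) _).hom =
        (f.appLE V U hU' ≫ X.presheaf.map (homOfLE (X.basicOpen_le g)).op).hom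
      rw [Scheme.Hom.appLE_map]
    haveI := hstd
    show Algebra.IsStandardSmoothOfRelativeDimension n B Γ(X, X.basicOpen g)
    exact Algebra.IsStandardSmoothOfRelativeDimension.of_algEquiv n
      ((Localization.algEquiv (Submonoid.powers g) Γ(X, X.basicOpen g)).restrictScalars B)

end Groth.L05.ConormalRank
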